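import Mathlib
import Cfsg.Agent.S4206
import Cfsg.Agent.H77.Regular

/-!
In a `p`-group of maximal class of order `p ^ (2k+1)` with `p ≥ k + 2` the term `γ_k` is elementary
abelian of order `p ^ (k+1)`.
-/

set_option autoImplicit false
open Subgroup
open scoped commutatorElement

namespace Cfsg.Agent.MaxClassP

theorem norm_expand {M : Type*} [CommMonoid M] (f : M →* M) (u : ℕ → M)
    (hu : ∀ l, f (u l) = u l * u (l + 1)) (n : ℕ) :
    ∏ i ∈ Finset.range n, f^[i] (u 0) = ∏ l ∈ Finset.range n, u l ^ n.choose (l + 1) := by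
  induction n with
  | zero => simp
  | succ n ih =>
    have h1 : ∀ i, f^[i + 1] (u 0) = f (f^[i] (u 0)) := fun i => Function.iterate_succ_apply' f i _
    rw [Finset.prod_range_succ']
    simp only [h1, Function.iterate_zero, id]
    rw [← map_prod, ih, map_prod]
    simp only [map_pow, hu, mul_pow, Finset.prod_mul_distrib]
    have e : ∏ l ∈ Finset.range n, u l ^ n.choose (l + 1) =
        ∏ l ∈ Finset.range (n + 1), u l ^ n.choose (l + 1) := by
      rw [Finset.prod_range_succ, Nat.choose_succ_self, pow_zero, mul_one]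
    rw [e, Finset.prod_range_succ' (fun l => u l ^ (n + 1).choose (l + 1)),
      Finset.prod_range_succ' (fun l => u l ^ n.choose (l + 1))]
    simp only [Nat.zero_add, Nat.choose_one_right, Nat.choose_succ_succ', pow_add,
      Finset.prod_mul_distrib, Nat.choose_zero_right, pow_one]
    ac_rfl

/-- A finite `p`-group is not the union of `p` proper subgroups. -/
theorem exists_notMem {Q : Type*} [Group Q] [Finite Q] {p : ℕ} [Fact p.Prime]
    (hQ : IsPGroup p Q) {ι : Type*} (s : Finset ι) (K : ι → Subgroup Q) (hK : ∀ i ∈ s, K i ≠ ⊤)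
    (hs : s.card ≤ p) : ∃ x : Q, ∀ i ∈ s, x ∉ K i := by
  classical
  haveI := Fintype.ofFinite Q
  by_contra h
  push Not at h
  have hp := (Fact.out : p.Prime)
  have hsub : (Finset.univ : Finset Q).erase 1 ⊆
      s.biUnion fun i => (Finset.univ.filter (· ∈ K i)).erase 1 := by
    intro x hx
    obtain ⟨i, hi, hxi⟩ := h x
    exact Finset.mem_biUnion.mpr ⟨i, hi, Finset.mem_erase.mpr
      ⟨Finset.ne_of_mem_erase hx, Finset.mem_filter.mpr ⟨Finset.mem_univ _, hxi⟩⟩⟩
  have h1 := (Finset.card_le_card hsub).trans (Finset.card_biUnion_le_card_mul _ _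
    (Nat.card Q / p - 1) (fun i hi => by
      rw [Finset.card_erase_of_mem (by simp [one_mem]), ← Fintype.card_subtype,
        ← Nat.card_eq_fintype_card]
      refine Nat.sub_le_sub_right ((Nat.le_div_iff_mul_le hp.pos).mpr ?_) 1
      obtain ⟨j, hj⟩ := hQ.index (K i)
      have hne : (K i).index ≠ 1 := fun e => hK i hi (index_eq_one.mp e)
      calc Nat.card {x // x ∈ K i} * p ≤ Nat.card (K i) * (K i).index := by
            refine Nat.mul_le_mul le_rfl ?_
            rw [hj] at hne ⊢
            exact Nat.le_self_pow (by rintro rfl; exact hne rfl) p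
        _ = Nat.card Q := (K i).card_mul_index))
  rw [Finset.card_erase_of_mem (Finset.mem_univ _), Finset.card_univ,
    ← Nat.card_eq_fintype_card] at h1
  have h2 : s.card * (Nat.card Q / p - 1) ≤ Nat.card Q - p := by
    refine (Nat.mul_le_mul_right _ hs).trans ?_
    rw [Nat.mul_sub, mul_one]
    exact Nat.sub_le_sub_right (Nat.mul_div_le _ _) p
  obtain ⟨j, hj⟩ := hQ.exists_card_eq
  have := hp.two_le
  rcases s.eq_empty_or_nonempty with rfl | ⟨i, hi⟩
  · obtain ⟨i, hi, -⟩ := h 1
    simp at hi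
  have hne : 1 < Nat.card Q := by
    rw [Finite.one_lt_card_iff_nontrivial]
    by_contra hn
    rw [not_nontrivial_iff_subsingleton] at hn
    exact hK i hi (Subsingleton.elim _ _)
  have hpQ : p ≤ Nat.card Q := Nat.le_of_dvd Nat.card_pos (by
    rw [hj] at hne ⊢
    exact dvd_pow_self p (by rintro rfl; simp at hne))
  omega

variable {Q : Type*} [Group Q]

/-- The centraliser of `L i / L (i+2)`. -/
def twoStep (Q : Type*) [Group Q] (i : ℕ) : Subgroup Q :=
  (centralizer ((((⊤ : Subgroup Q).lowerCentralSeries i).map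
    (QuotientGroup.mk' ((⊤ : Subgroup Q).lowerCentralSeries (i + 2)))) : Set _)).comap
    (QuotientGroup.mk' ((⊤ : Subgroup Q).lowerCentralSeries (i + 2)))

/-- The lower central series. -/
abbrev lcs (Q : Type*) [Group Q] (i : ℕ) : Subgroup Q := (⊤ : Subgroup Q).lowerCentralSeries i

theorem mem_twoStep {g : Q} {i : ℕ} :
    g ∈ twoStep Q i ↔ ∀ y ∈ lcs Q i, y⁻¹ * g * y * g⁻¹ ∈ lcs Q (i + 2) := by
  simp only [twoStep, mem_comap, mem_centralizer_iff, SetLike.mem_coe, Subgroup.mem_map,
    forall_exists_index, and_imp, forall_apply_eq_imp_iff₂, QuotientGroup.mk'_apply]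
  refine forall₂_congr fun y _ => ?_
  rw [← QuotientGroup.mk_mul, ← QuotientGroup.mk_mul, QuotientGroup.eq]
  constructor
  · intro h
    have := ((inferInstance : (lcs Q (i + 2)).Normal)).conj_mem _ h g
    convert this using 1
    group
  · intro h
    have := ((inferInstance : (lcs Q (i + 2)).Normal)).conj_mem _ h g⁻¹
    convert this using 1
    group

theorem lcs_succ (i : ℕ) : lcs Q (i + 1) = ⁅lcs Q i, (⊤ : Subgroup Q)⁆ :=
  Subgroup.lowerCentralSeries_succ _ i

theorem comm_lcs [Finite Q] (i j : ℕ) : ⁅lcs Q i, lcs Q j⁆ ≤ lcs Q (i + j + 1) :=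
  S4206.result (lcs Q) (fun _ => inferInstance)
    (fun k => Subgroup.lowerCentralSeries_antitone _ (Nat.le_succ k)) ⊤
    (fun k => (lcs_succ k).ge) i j

theorem comm_mem {y : Q} {i : ℕ} (hy : y ∈ lcs Q i) (g : Q) : y⁻¹ * g * y * g⁻¹ ∈ lcs Q (i + 1) := by
  have h := commutator_mem_commutator (inv_mem hy) (mem_top g)
  rw [lcs_succ]
  simpa [commutatorElement_def, mul_assoc] using h

section

variable [Finite Q] {p : ℕ} [Fact p.Prime] {m : ℕ}
  (hcard : ∀ j, 1 ≤ j → j ≤ m → Nat.card (lcs Q j) = p ^ (m - j))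

include hcard

theorem lcs_eq_bot {j : ℕ} (hj : m ≤ j) (hm : 1 ≤ m) : lcs Q j = ⊥ := by
  refine le_bot_iff.mp ((Subgroup.lowerCentralSeries_antitone _ hj).trans (le_of_eq ?_))
  exact card_eq_one.mp (by rw [hcard m hm le_rfl, Nat.sub_self, pow_zero])

theorem lcs_le_of_mem {H : Subgroup Q} {j : ℕ} (hj : 1 ≤ j) (hjm : j < m) (hH : lcs Q (j + 1) ≤ H)
    {a : Q} (ha : a ∈ lcs Q j) (ha' : a ∉ lcs Q (j + 1)) (haH : a ∈ H) : lcs Q j ≤ H := by
  have hp := (Fact.out : p.Prime)
  set X := lcs Q (j + 1) ⊔ zpowers a with hX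
  have hXj : X ≤ lcs Q j := sup_le (Subgroup.lowerCentralSeries_antitone _ (Nat.le_succ j)) (zpowers_le.mpr ha)
  have hd : Nat.card X ∣ p ^ (m - j) := hcard j hj hjm.le ▸ card_dvd_of_le hXj
  obtain ⟨i, hi, hXi⟩ := (Nat.dvd_prime_pow hp).mp hd
  have hlt : lcs Q (j + 1) < X := lt_of_le_of_ne le_sup_left fun e =>
    ha' (e ▸ mem_sup_right (mem_zpowers a))
  have h2 : p ^ (m - (j + 1)) < p ^ i := by
    rw [← hXi, ← hcard (j + 1) (by omega) hjm]
    exact Set.ncard_lt_ncard (SetLike.coe_ssubset_coe.mpr hlt) (Set.toFinite _)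
  have h3 := (Nat.pow_lt_pow_iff_right hp.one_lt).mp h2
  have hXeq : X = lcs Q j := eq_of_le_of_card_ge hXj (by
    rw [hcard j hj hjm.le, hXi]; exact Nat.pow_le_pow_right hp.pos (by omega))
  exact hXeq ▸ sup_le hH (zpowers_le.mpr haH)

theorem lcs_succ_lt {j : ℕ} (hj : 1 ≤ j) (hjm : j < m) : ∃ a ∈ lcs Q j, a ∉ lcs Q (j + 1) := by
  by_contra h
  push Not at h
  have hp := (Fact.out : p.Prime)
  have := card_le_of_le (show lcs Q j ≤ lcs Q (j + 1) from h)
  rw [hcard j hj hjm.le, hcard (j + 1) (by omega) hjm] at this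
  have := (Nat.pow_le_pow_iff_right hp.one_lt).mp this
  omega

theorem twoStep_ne_top {i : ℕ} (hi : i + 1 < m) : twoStep Q i ≠ ⊤ := by
  intro h
  obtain ⟨a, ha, ha'⟩ := lcs_succ_lt hcard (j := i + 1) (by omega) hi
  refine ha' ((?_ : lcs Q (i + 1) ≤ lcs Q (i + 2)) ha)
  rw [lcs_succ, commutator_le]
  intro y hy g _
  have := mem_twoStep.mp (h.ge (mem_top g) : g ∈ twoStep Q i) y⁻¹ (inv_mem hy)
  simpa [commutatorElement_def, mul_assoc] using this

/-- A `p`-th power of `s` in `L j` lies in `L (j+1)` when `s` is outside `twoStep j`. -/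
theorem pow_mem_succ {s : Q} {j : ℕ} (hj : 1 ≤ j) (hjm : j < m) (hs : s ∉ twoStep Q j)
    (hu : s ^ p ∈ lcs Q j) : s ^ p ∈ lcs Q (j + 1) := by
  by_contra hu'
  refine hs (mem_twoStep.mpr fun y hy => ?_)
  haveI : (lcs Q (j + 2)).Normal := inferInstance
  set π := QuotientGroup.mk' (lcs Q (j + 2))
  let H : Subgroup Q := (centralizer ({π s} : Set _)).comap π
  have hH : ∀ g, g ∈ H ↔ π g * π s = π s * π g := fun g =>
    mem_centralizer_singleton_iff
  have h1 : lcs Q (j + 1) ≤ H := fun g hg => by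
    rw [hH, ← commutatorElement_eq_one_iff_mul_comm, ← map_commutatorElement]
    exact (QuotientGroup.eq_one_iff _).mpr (commutator_mem_commutator hg (mem_top s))
  have h2 := lcs_le_of_mem hcard hj hjm h1 hu hu' ((hH _).mpr (by
    rw [← map_mul, ← map_mul, ← pow_succ, ← pow_succ']))
  have h3 := (hH y).mp (h2 hy)
  rw [← QuotientGroup.eq_one_iff]
  change π (y⁻¹ * s * y * s⁻¹) = 1
  rw [map_mul, map_mul, map_mul, map_inv, map_inv, mul_assoc _ (π s), ← h3]
  group

theorem pow_mem_lcs (hQ : IsPGroup p Q) (hbase : ∀ g : Q, g ^ p ∈ lcs Q 1) {j : ℕ} (hj : 1 ≤ j)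
    (hjm : j < m) (hjp : j + 1 ≤ p) (g : Q) : g ^ p ∈ lcs Q j := by
  induction j generalizing g with
  | zero => omega
  | succ j ih =>
    rcases Nat.eq_zero_or_pos j with rfl | hj0
    · exact hbase g
    have ih' : ∀ g, g ^ p ∈ lcs Q j := fun g => ih hj0 (by omega) (by omega) g
    haveI : (lcs Q (j + 1)).Normal := inferInstance
    set π := QuotientGroup.mk' (lcs Q (j + 1)) with hπ
    have hreg : Cfsg.IsRegularPGroup p (Q ⧸ lcs Q (j + 1)) := by
      refine H77.Regular.isRegular_of_class_lt (hQ.to_quotient _) ?_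
      refine le_bot_iff.mp ((Subgroup.lowerCentralSeries_antitone _ (show j + 1 ≤ p - 1 by omega)).trans ?_)
      rw [← map_top_of_surjective π (QuotientGroup.mk'_surjective _), ← map_lowerCentralSeries]
      exact le_of_eq (QuotientGroup.map_mk'_self _)
    have hgood : ∀ t, t ∉ twoStep Q j → π t ^ p ^ 1 = 1 := fun t ht => by
      rw [pow_one, ← map_pow]
      exact (QuotientGroup.eq_one_iff _).mpr (pow_mem_succ hcard hj0 (by omega) ht (ih' t))
    have hne := twoStep_ne_top hcard (i := j) (by omega)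
    obtain ⟨t, -, ht⟩ := SetLike.exists_of_lt (lt_top_iff_ne_top.mpr hne)
    have hall : π g ^ p ^ 1 = 1 := by
      by_cases hg : g ∈ twoStep Q j
      · have ht2 : t⁻¹ * g ∉ twoStep Q j := fun h => ht (by
          have := mul_mem hg (inv_mem h)
          simpa using this)
        have := H77.Regular.mul_pow_eq_one hreg 1 (hgood t ht) (hgood _ ht2)
        rwa [← map_mul, mul_inv_cancel_left] at this
      · exact hgood g hg
    rw [pow_one, ← map_pow] at hall
    exact (QuotientGroup.eq_one_iff _).mp hall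

end

/-- `γ_k` is elementary abelian. -/
theorem elementary [Finite Q] {p : ℕ} [Fact p.Prime] {k : ℕ} (hk : 2 ≤ k) (hkp : k + 2 ≤ p)
    (hQ : IsPGroup p Q) (hcard : ∀ j, 1 ≤ j → j ≤ 2 * k → Nat.card (lcs Q j) = p ^ (2 * k - j))
    (hbase : ∀ g : Q, g ^ p ∈ lcs Q 1) :
    IsMulCommutative (lcs Q (k - 1)) ∧ ∀ x ∈ lcs Q (k - 1), x ^ p = 1 := by
  classical
  have hp := (Fact.out : p.Prime)
  have hbot : ∀ j, 2 * k ≤ j → lcs Q j = ⊥ := fun j hj => lcs_eq_bot hcard hj (by omega)
  have hnorm : ∀ j, (lcs Q j).Normal := fun _ => inferInstance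
  -- `γ_k` is abelian
  obtain ⟨a₀, ha₀, ha₀'⟩ := lcs_succ_lt hcard (j := k - 1) (by omega) (by omega)
  have hab : ∀ x ∈ lcs Q (k - 1), ∀ y ∈ lcs Q (k - 1), x * y = y * x := by
    have h0 : lcs Q (k - 1) ≤ centralizer (lcs Q k : Set Q) := fun x hx => mem_centralizer_iff.mpr fun y hy =>
      commutatorElement_eq_one_iff_mul_comm.mp (mem_bot.mp ((hbot _ (by omega : 2 * k ≤ k + (k - 1) + 1)) ▸
        comm_lcs k (k - 1) (commutator_mem_commutator hy hx)))
    have hk1 : lcs Q (k - 1 + 1) = lcs Q k := by rw [Nat.sub_add_cancel (by omega : 1 ≤ k)]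
    have hkk : lcs Q k ≤ lcs Q (k - 1) := Subgroup.lowerCentralSeries_antitone _ (by omega)
    have h2 : lcs Q (k - 1) ≤ centralizer ({a₀} : Set Q) := by
      refine lcs_le_of_mem hcard (by omega) (by omega) ?_ ha₀ ha₀'
        (mem_centralizer_singleton_iff.mpr rfl)
      rw [hk1]
      exact fun z hz => mem_centralizer_singleton_iff.mpr (mem_centralizer_iff.mp (h0 ha₀) z hz)
    intro x hx
    have h3 : lcs Q (k - 1) ≤ centralizer ({x} : Set Q) := by
      refine lcs_le_of_mem hcard (by omega) (by omega) ?_ ha₀ ha₀'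
        (mem_centralizer_singleton_iff.mpr (mem_centralizer_singleton_iff.mp (h2 hx)).symm)
      rw [hk1]
      exact fun z hz => mem_centralizer_singleton_iff.mpr (mem_centralizer_iff.mp (h0 hx) z hz)
    exact fun y hy => (mem_centralizer_singleton_iff.mp (h3 hy)).symm
  refine ⟨isMulCommutative_iff.mpr fun x y => Subtype.ext (hab x x.2 y y.2), ?_⟩
  -- choice of `s`
  obtain ⟨s, hs⟩ := exists_notMem hQ (Finset.Icc (k - 2) (2 * k - 2)) (twoStep Q)
    (fun i hi => twoStep_ne_top hcard (by have := Finset.mem_Icc.mp hi; omega))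
    (by rw [Nat.card_Icc]; omega)
  have hsp : ∀ y, s ^ p * y = y * s ^ p := by
    have h1 : ∀ j, max (k - 2) 1 ≤ j → j ≤ 2 * k - 1 → s ^ p ∈ lcs Q j := by
      intro j hj hj2
      induction j with
      | zero => omega
      | succ j ih =>
        rcases Nat.lt_or_ge j (max (k - 2) 1) with hlt | hge
        · exact pow_mem_lcs hcard hQ hbase (by omega) (by omega) (by omega) s
        · exact pow_mem_succ hcard (by omega) (by omega)
            (hs j (Finset.mem_Icc.mpr ⟨by omega, by omega⟩)) (ih hge (by omega))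
    intro y
    have h2 := commutator_mem_commutator (h1 (2 * k - 1) (by omega) le_rfl) (mem_top y)
    rw [← lcs_succ, hbot _ (by omega), mem_bot] at h2
    exact commutatorElement_eq_one_iff_mul_comm.mp h2
  -- downward induction
  suffices h : ∀ d j, j + d = 2 * k → k - 1 ≤ j → ∀ x ∈ lcs Q j, x ^ p = 1 from
    fun x hx => h (k + 1) (k - 1) (by omega) le_rfl x hx
  intro d
  induction d with
  | zero =>
    intro j hj _ x hx
    rw [hbot j (by omega), mem_bot] at hx
    rw [hx, one_pow]
  | succ d ih =>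
    intro j hj hjk
    have hkill : ∀ x ∈ lcs Q (j + 1), x ^ p = 1 := ih (j + 1) (by omega) (by omega)
    obtain ⟨y, hy, hy'⟩ : ∃ y ∈ lcs Q (j - 1), y⁻¹ * s * y * s⁻¹ ∉ lcs Q (j - 1 + 2) := by
      have := mem_twoStep.not.mp (hs (j - 1) (Finset.mem_Icc.mpr ⟨by omega, by omega⟩))
      push Not at this
      exact this
    rw [show j - 1 + 2 = j + 1 by omega] at hy'
    have haj : y⁻¹ * s * y * s⁻¹ ∈ lcs Q j := by
      have := comm_mem hy s
      rwa [Nat.sub_add_cancel (by omega : 1 ≤ j)] at this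
    set A := lcs Q (k - 1) with hA
    have hjA : lcs Q j ≤ A := Subgroup.lowerCentralSeries_antitone _ hjk
    letI : CommGroup A :=
      { (inferInstance : Group A) with mul_comm := fun x y => Subtype.ext (hab x x.2 y y.2) }
    let f : A →* A :=
      { toFun := fun x => ⟨s * x * s⁻¹, (hnorm _).conj_mem _ x.2 s⟩
        map_one' := Subtype.ext (by simp)
        map_mul' := fun x z => Subtype.ext (by simp [mul_assoc]) }
    let g : A → A := fun x => x⁻¹ * f x
    let u : ℕ → A := fun l => g^[l] ⟨_, hjA haj⟩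
    have hu : ∀ l, f (u l) = u l * u (l + 1) := fun l => by
      simp [u, g, Function.iterate_succ_apply']
    have hul : ∀ l, ((u l : A) : Q) ∈ lcs Q (j + l) := by
      intro l
      induction l with
      | zero => exact haj
      | succ l ihl =>
        show ((g^[l + 1] _ : A) : Q) ∈ _
        rw [Function.iterate_succ_apply']
        have h := comm_mem ihl s
        simpa [g, f, u, mul_assoc, add_assoc] using h
    have hiter : ∀ i, ((f^[i] (u 0) : A) : Q) = s ^ i * (y⁻¹ * s * y * s⁻¹) * (s ^ i)⁻¹ := by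
      intro i
      induction i with
      | zero => simp [u]
      | succ i ihi =>
        rw [Function.iterate_succ_apply']
        show s * _ * s⁻¹ = _
        rw [ihi, pow_succ']
        group
    have htel : ∀ i, ((∏ l ∈ Finset.range i, f^[l] (u 0) : A) : Q) = y⁻¹ * (s ^ i * y * (s ^ i)⁻¹) := by
      intro i
      induction i with
      | zero => simp
      | succ i ihi =>
        rw [Finset.prod_range_succ, Subgroup.coe_mul, ihi, hiter, pow_succ]
        group
    have hone : ∏ l ∈ Finset.range p, f^[l] (u 0) = 1 := by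
      apply Subtype.ext
      rw [htel, hsp y, mul_inv_cancel_right, inv_mul_cancel]
      rfl
    rw [norm_expand f u hu, ← Nat.sub_add_cancel hp.one_le, Finset.prod_range_succ',
      Nat.sub_add_cancel hp.one_le, Nat.zero_add, Nat.choose_one_right] at hone
    have hrest : ∏ l ∈ Finset.range (p - 1), u (l + 1) ^ p.choose (l + 1 + 1) = 1 := by
      refine Finset.prod_eq_one fun l hl => ?_
      rw [Finset.mem_range] at hl
      apply Subtype.ext
      rw [SubgroupClass.coe_pow, Subgroup.coe_one]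
      by_cases hlast : l + 1 + 1 = p
      · have h := hul (l + 1)
        rw [hbot _ (by omega), mem_bot] at h
        rw [h, one_pow]
      · obtain ⟨c, hc⟩ := hp.dvd_choose_self (k := l + 1 + 1) (by omega) (by omega)
        rw [hc, pow_mul, hkill _ (Subgroup.lowerCentralSeries_antitone _ (by omega) (hul (l + 1))), one_pow]
    rw [hrest, one_mul] at hone
    have hap : (y⁻¹ * s * y * s⁻¹) ^ p = 1 := congrArg Subtype.val hone
    intro x hx
    let H : Subgroup Q := (powMonoidHom p : A →* A).ker.map A.subtype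
    have hxH : lcs Q j ≤ H := by
      refine lcs_le_of_mem hcard (by omega) (by omega) (fun z hz => ?_) haj hy' ?_
      · exact ⟨⟨z, hjA (Subgroup.lowerCentralSeries_antitone _ (Nat.le_succ j) hz)⟩,
          Subtype.ext (hkill z hz), rfl⟩
      · exact ⟨⟨_, hjA haj⟩, Subtype.ext hap, rfl⟩
    obtain ⟨z, hz, hzx⟩ := hxH hx
    rw [← hzx]
    exact congrArg Subtype.val hz

end Cfsg.Agent.MaxClassP
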