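import Mathlib
import Cfsg.Agent.MaxClassP.Section
import Cfsg.Agent.H73.Sectional.Levels
import Cfsg.Agent.H4.MaxClass
import Cfsg.Agent.PSolv.Cores

/-!
In a `p`-group of maximal class the two-step centralisers are covered by `p - 1` of them, so the
elements with centraliser of order `p ^ 2` outside the centraliser of the second centre generate.
-/

set_option autoImplicit false
set_option linter.unusedSectionVars false

open Subgroup
open scoped commutatorElement

namespace Cfsg.Agent.MaxClassP

variable {Q : Type*} [Group Q] [Finite Q] {p : ℕ} [Fact p.Prime]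

/-- The orders of the lower central terms of a group of maximal class. -/
theorem card_lcs {n : ℕ} (hn : 3 ≤ n) (hcard : Nat.card Q = p ^ n)
    (hmax : Group.nilpotencyClass Q = n - 1) :
    ∀ j, 1 ≤ j → j ≤ n - 1 → Nat.card (lcs Q j) = p ^ (n - 1 - j) := by
  have hp := (Fact.out : p.Prime)
  have hQ : IsPGroup p Q := IsPGroup.of_card hcard
  haveI := hQ.isNilpotent
  have hidx := H4.index_commutator_eq_sq hn hcard hmax
  have hcomm : Nat.card (commutator Q) = p ^ (n - 2) := by
    refine Nat.eq_of_mul_eq_mul_right (pow_pos hp.pos 2) ?_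
    rw [← pow_add, ← hidx, card_mul_index, hcard, Nat.sub_add_cancel (by omega : 2 ≤ n)]
  have hne : ∀ j, j ≤ n - 2 → lcs Q j ≠ ⊥ := fun j hj h => by
    have := Subgroup.lowerCentralSeries_eq_bot_iff_nilpotencyClass_le.mp h
    omega
  have hlb : ∀ d j, 1 ≤ j → j + d = n - 1 → p ^ d ≤ Nat.card (lcs Q j) := by
    intro d
    induction d with
    | zero => intro j _ _; rw [pow_zero]; exact Nat.card_pos
    | succ d ih =>
      intro j hj hjd
      have hlt2 : lcs Q (j + 1) < lcs Q j := by
        have := PGroup.commutator_top_lt hQ (hne j (by omega))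
        rwa [← lcs_succ] at this
      have h1 := ih (j + 1) (by omega) (by omega)
      obtain ⟨a, ha⟩ := (hQ.to_subgroup (lcs Q j)).exists_card_eq
      have h2 : Nat.card (lcs Q (j + 1)) < Nat.card (lcs Q j) :=
        Set.ncard_lt_ncard (SetLike.coe_ssubset_coe.mpr hlt2) (Set.toFinite _)
      rw [ha] at h2 ⊢
      exact Nat.pow_le_pow_right hp.pos ((Nat.pow_lt_pow_iff_right hp.one_lt).mp (h1.trans_lt h2))
  intro j hj hj'
  refine le_antisymm ?_ (hlb (n - 1 - j) j hj (by omega))
  rcases Nat.lt_or_ge (n - 2) j with h | h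
  · have : lcs Q j = ⊥ := Subgroup.lowerCentralSeries_eq_bot_iff_nilpotencyClass_le.mpr (by omega)
    rw [this, card_bot]
    exact Nat.one_le_pow _ _ hp.pos
  · obtain ⟨i, rfl⟩ := Nat.exists_eq_add_of_le' hj
    have h1 : Nat.card (lcs Q (i + 1)) * p ^ i ≤ p ^ (n - 2) :=
      hcomm ▸ (H4.commutator_card_mul_le hQ i).resolve_left (hne (i + 1) h)
    refine Nat.le_of_mul_le_mul_right (h1.trans ?_) (pow_pos hp.pos i)
    rw [← pow_add]
    exact Nat.pow_le_pow_right hp.pos (by omega)

theorem top_of_sup_lcs_one (hQ : IsPGroup p Q) {K : Subgroup Q} (h : K ⊔ lcs Q 1 = ⊤) : K = ⊤ := by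
  haveI := hQ.isNilpotent
  refine frattini_nongenerating (top_unique ?_)
  rw [← h]
  refine sup_le_sup_left ?_ _
  rw [lcs, top_lowerCentralSeries_one]
  exact PGroup.commutator_le_frattini hQ

variable {m : ℕ}

section

variable (hQ : IsPGroup p Q) (hm : 2 ≤ m) (hord : Nat.card Q = p ^ (m + 1))
  (hcard : ∀ j, 1 ≤ j → j ≤ m → Nat.card (lcs Q j) = p ^ (m - j))

include hQ hm hord hcard

theorem index_lcs_one : (lcs Q 1).index = p ^ 2 := by
  have hp := (Fact.out : p.Prime)
  have h := (lcs Q 1).card_mul_index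
  rw [hcard 1 le_rfl (by omega), hord, show m + 1 = m - 1 + 2 by omega, pow_add p (m - 1) 2] at h
  exact Nat.eq_of_mul_eq_mul_left (pow_pos hp.pos _) h

theorem pow_mem_lcs_one (g : Q) : g ^ p ∈ lcs Q 1 := by
  have hp := (Fact.out : p.Prime)
  haveI : (lcs Q 1).Normal := inferInstance
  set π := QuotientGroup.mk' (lcs Q 1)
  have hc : Nat.card (Q ⧸ lcs Q 1) = p ^ 2 := by
    rw [← index_eq_card]; exact index_lcs_one hQ hm hord hcard
  obtain ⟨i, hi, hgi⟩ := (Nat.dvd_prime_pow hp).1 (hc ▸ orderOf_dvd_natCard (π g))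
  refine (QuotientGroup.eq_one_iff _).1 ?_
  show π (g ^ p) = 1
  rw [map_pow, ← orderOf_dvd_iff_pow_eq_one, hgi]
  rcases (by omega : i ≤ 1 ∨ i = 2) with h | rfl
  · exact (Nat.pow_dvd_pow p h).trans (pow_one p).dvd
  exfalso
  have htop : (zpowers g).map π = ⊤ := by
    rw [MonoidHom.map_zpowers]
    exact eq_top_of_card_eq _ (by rw [Nat.card_zpowers, hgi, hc])
  have hg : zpowers g = ⊤ := top_of_sup_lcs_one hQ (by
    have h1 := congrArg (comap π) htop
    rwa [comap_map_eq, comap_top, QuotientGroup.ker_mk'] at h1)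
  have hbot : lcs Q 1 = ⊥ := by
    rw [lcs, top_lowerCentralSeries_one, commutator_eq_bot_iff_center_eq_top, eq_top_iff]
    intro a _
    refine mem_center_iff.2 fun b => ?_
    obtain ⟨s, rfl⟩ := mem_zpowers_iff.1 (hg.ge (mem_top a))
    obtain ⟨t, rfl⟩ := mem_zpowers_iff.1 (hg.ge (mem_top b))
    exact Commute.zpow_zpow_self g t s
  have h1 := hcard 1 le_rfl (by omega)
  rw [hbot, card_bot] at h1
  exact absurd h1.symm (Nat.one_lt_pow (by omega) hp.one_lt).ne'

omit hQ hm hord in
/-- Outside `twoStep j`, only elements of `L (j+1)` of `L j` are centralised modulo `L (j+2)`. -/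
theorem mem_succ_of_comm {s c : Q} {j : ℕ} (hj : 1 ≤ j) (hjm : j < m) (hs : s ∉ twoStep Q j)
    (hc : c ∈ lcs Q j) (hcomm : ⁅c, s⁆ ∈ lcs Q (j + 2)) : c ∈ lcs Q (j + 1) := by
  by_contra hc'
  refine hs (mem_twoStep.mpr fun y hy => ?_)
  haveI : (lcs Q (j + 2)).Normal := inferInstance
  set π := QuotientGroup.mk' (lcs Q (j + 2))
  let H : Subgroup Q := (centralizer ({π s} : Set _)).comap π
  have hH : ∀ g, g ∈ H ↔ π g * π s = π s * π g := fun g => mem_centralizer_singleton_iff
  have hH' : ∀ g, ⁅g, s⁆ ∈ lcs Q (j + 2) → g ∈ H := fun g hg => by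
    rw [hH, ← commutatorElement_eq_one_iff_mul_comm, ← map_commutatorElement]
    exact (QuotientGroup.eq_one_iff _).mpr hg
  have h2 := lcs_le_of_mem hcard hj hjm
    (fun g hg => hH' g (commutator_mem_commutator hg (mem_top s))) hc hc' (hH' c hcomm)
  have h3 := (hH y).mp (h2 hy)
  rw [← QuotientGroup.eq_one_iff]
  change π (y⁻¹ * s * y * s⁻¹) = 1
  rw [map_mul, map_mul, map_mul, map_inv, map_inv, mul_assoc _ (π s), ← h3]
  group

/-- An element outside all two-step centralisers is small. -/
theorem small_of_notMem (hm3 : 3 ≤ m) {x : Q}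
    (hx : ∀ i, 1 ≤ i → i + 2 ≤ m → x ∉ twoStep Q i) : H73.Sectional.Small p (m + 1) x := by
  have hp := (Fact.out : p.Prime)
  haveI : (lcs Q 1).Normal := inferInstance
  have hcen : lcs Q (m - 1) ≤ center Q := fun c hc => mem_center_iff.2 fun g => by
    have h1 := commutator_mem_commutator hc (mem_top g)
    rw [← lcs_succ, lcs_eq_bot hcard (by omega) (by omega), mem_bot,
      commutatorElement_eq_one_iff_mul_comm] at h1
    exact h1.symm
  set C := centralizer ({x} : Set Q) with hC
  have hCL : C ⊓ lcs Q 1 ≤ lcs Q (m - 1) := by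
    have : ∀ i, i + 2 ≤ m → C ⊓ lcs Q 1 ≤ lcs Q (i + 1) := by
      intro i
      induction i with
      | zero => intro _; exact inf_le_right
      | succ i ih =>
        intro hi c hc
        refine mem_succ_of_comm hcard (by omega) (by omega) (hx _ (by omega) hi) (ih (by omega) hc) ?_
        rw [commutatorElement_eq_one_iff_mul_comm.2 (mem_centralizer_singleton_iff.1 hc.1)]
        exact one_mem _
    exact (this (m - 2) (by omega)).trans (le_of_eq (by rw [show m - 2 + 1 = m - 1 by omega]))
  refine ⟨hord, by omega, hcen (hCL ⟨mem_centralizer_singleton_iff.2 ((Commute.refl x).pow_left p).eq,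
    pow_mem_lcs_one hQ hm hord hcard x⟩), ?_⟩
  set π := QuotientGroup.mk' (lcs Q 1)
  have h1 : Nat.card (C ⊓ lcs Q 1 : Subgroup Q) ≤ p := by
    refine (card_le_of_le hCL).trans (le_of_eq ?_)
    rw [hcard _ (by omega) (by omega), show m - (m - 1) = 1 by omega, pow_one]
  have h2 : Nat.card (C.map π) ≤ p := by
    have hne : C.map π ≠ ⊤ := fun h => by
      have hCtop : C = ⊤ := top_of_sup_lcs_one hQ (by
        have h3 := congrArg (comap π) h
        rwa [comap_map_eq, comap_top, QuotientGroup.ker_mk'] at h3)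
      refine hx 1 le_rfl (by omega) (mem_twoStep.2 fun y _ => ?_)
      rw [show y⁻¹ * x * y * x⁻¹ = y⁻¹ * (x * y) * x⁻¹ by group,
        ← mem_centralizer_singleton_iff.1 (hCtop.ge (mem_top y) : y ∈ C),
        show y⁻¹ * (y * x) * x⁻¹ = 1 by group]
      exact one_mem _
    obtain ⟨i, hi⟩ := IsPGroup.iff_card.1 ((hQ.to_quotient (lcs Q 1)).to_subgroup (C.map π))
    have hlt : Nat.card (C.map π) < p ^ 2 := by
      rw [← index_lcs_one hQ hm hord hcard, index_eq_card]
      exact lt_of_le_of_ne (card_le_card_group _) fun e => hne (eq_top_of_card_eq _ e)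
    rw [hi, Nat.pow_lt_pow_iff_right hp.one_lt] at hlt
    rw [hi]
    exact (Nat.pow_le_pow_right hp.pos (by omega : i ≤ 1)).trans (pow_one p).le
  have h3 := relIndex_mul_relIndex ⊥ (lcs Q 1 ⊓ C) C bot_le inf_le_right
  rw [relIndex_bot_left, relIndex_bot_left, inf_relIndex_right, ← PSolv.card_map_mk_eq_relIndex] at h3
  rw [← h3, pow_two, inf_comm]
  exact Nat.mul_le_mul h1 h2

end

open H73.Sectional in
/-- The two-step centralisers increase with period `p - 1`. -/
theorem twoStep_le_add {x : Q} (h : Small p (m + 1) x)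
    (hcard : ∀ j, 1 ≤ j → j ≤ m → Nat.card (lcs Q j) = p ^ (m - j)) {i : ℕ} (hi : 1 ≤ i)
    (him : i + p + 1 ≤ m) : twoStep Q i ≤ twoStep Q (i + (p - 1)) := by
  have hp := (Fact.out : p.Prime)
  have hp2 := hp.two_le
  intro g hg
  set k := i + (p - 1) with hk
  haveI : (lcs Q (k + 2)).Normal := inferInstance
  set π := QuotientGroup.mk' (lcs Q (k + 2)) with hπ
  obtain ⟨a, ha, ha'⟩ := lcs_succ_lt hcard hi (by omega)
  obtain ⟨hap, hap'⟩ := pow_mem_lev h (m + 1) i (by omega) hi a ha
  rw [show i + p - 1 = k by omega, show i + p = k + 1 by omega] at *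
  have hne : lev Q k ≠ ⊥ := fun e => by
    have := hcard k (by omega) (by omega)
    rw [show lcs Q k = ⊥ from e, card_bot] at this
    exact absurd this.symm (Nat.one_lt_pow (by omega) hp.one_lt).ne'
  have hap'' : a ^ p ∉ lcs Q (k + 1) := hap' ha' hne
  set c := a⁻¹ * g * a * g⁻¹ with hc
  have hcL : c ∈ lcs Q (i + 2) := mem_twoStep.mp hg a ha
  -- `(a c) ^ p = a ^ p` modulo `L (k + 2)`
  set M := closure ({π a, π c} : Set (Q ⧸ lcs Q (k + 2))) with hM
  have hkill : ∀ u ∈ lcs Q (i + 2), π u ^ p = 1 := fun u hu => by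
    rw [← map_pow]
    refine (QuotientGroup.eq_one_iff _).2 ?_
    refine Subgroup.lowerCentralSeries_antitone _ (show k + 2 ≤ i + 2 + p - 1 by omega) ?_
    exact (pow_mem_lev h (m + 1) (i + 2) (by omega) (by omega) u hu).1
  have hMi : M ≤ (lcs Q i).map π := by
    rw [hM, closure_le]
    rintro u (rfl | rfl)
    · exact mem_map_of_mem π ha
    · exact mem_map_of_mem π (Subgroup.lowerCentralSeries_antitone _ (by omega : i ≤ i + 2) hcL)
  haveI hLn : ((lcs Q (i + i + 3)).map π).Normal :=
    (inferInstance : (lcs Q (i + i + 3)).Normal).map π (QuotientGroup.mk'_surjective _)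
  have hMM : ⁅M, M⁆ ≤ (lcs Q (i + i + 3)).map π := by
    set φ := QuotientGroup.mk' ((lcs Q (i + i + 3)).map π)
    have hac : φ (π a) * φ (π c) = φ (π c) * φ (π a) := by
      rw [← commutatorElement_eq_one_iff_mul_comm, ← map_commutatorElement, ← map_commutatorElement]
      refine (QuotientGroup.eq_one_iff _).2 (mem_map_of_mem π ?_)
      rw [show i + i + 3 = i + (i + 2) + 1 by omega]
      exact comm_lcs i (i + 2) (commutator_mem_commutator ha hcL)
    haveI : IsMulCommutative (closure ({φ (π a), φ (π c)} : Set _)) :=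
      Subgroup.isMulCommutative_closure (by
        rintro u (rfl | rfl) v (rfl | rfl) <;> first | rfl | exact hac | exact hac.symm)
    rw [commutator_le]
    intro u hu v hv
    refine (QuotientGroup.eq_one_iff _).1 ?_
    show φ ⁅u, v⁆ = 1
    rw [map_commutatorElement, commutatorElement_eq_one_iff_mul_comm]
    have hmem : ∀ w ∈ M, φ w ∈ closure ({φ (π a), φ (π c)} : Set _) := fun w hw => by
      have := mem_map_of_mem φ hw
      rwa [hM, MonoidHom.map_closure, Set.image_pair] at this
    exact congrArg Subtype.val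
      (isMulCommutative_iff.mp ‹_› ⟨_, hmem u hu⟩ ⟨_, hmem v hv⟩)
  have hseries : ∀ l, 1 ≤ l →
      ((⊤ : Subgroup M).lowerCentralSeries l).map M.subtype ≤ (lcs Q (i + l + 2)).map π := by
    intro l hl
    induction l, hl using Nat.le_induction with
    | base =>
      rw [top_lowerCentralSeries_one, map_subtype_commutator]
      exact hMM.trans (map_mono (Subgroup.lowerCentralSeries_antitone _ (by omega)))
    | succ l hl ih =>
      rw [Subgroup.lowerCentralSeries_succ, map_commutator, ← MonoidHom.range_eq_map, range_subtype]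
      refine (commutator_mono ih hMi).trans ?_
      rw [← map_commutator]
      exact map_mono ((comm_lcs _ _).trans (Subgroup.lowerCentralSeries_antitone _ (by omega)))
  have hcl : (⊤ : Subgroup M).lowerCentralSeries (p - 1) = ⊥ := by
    rw [← map_eq_bot_iff_of_injective _ M.subtype_injective, eq_bot_iff]
    refine (hseries (p - 1) (by omega)).trans (le_of_eq ?_)
    rw [Subgroup.map_eq_bot_iff, QuotientGroup.ker_mk']
  have hcor := H77.Regular.exists_correction hp hcl ⟨π a, subset_closure (Set.mem_insert _ _)⟩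
    ⟨π c, subset_closure (Set.mem_insert_of_mem _ rfl)⟩ 1
  have hpc : Cfsg.powerClosure p 1 (commutator M) = ⊥ := by
    rw [Cfsg.powerClosure, closure_eq_bot_iff]
    rintro _ ⟨w, hw, rfl⟩
    have h1 : (w : Q ⧸ lcs Q (k + 2)) ∈ (lcs Q (i + 1 + 2)).map π := hseries 1 le_rfl
      (mem_map_of_mem M.subtype (by rwa [top_lowerCentralSeries_one]))
    obtain ⟨u, hu, huw⟩ := h1
    rw [Set.mem_singleton_iff]
    apply Subtype.ext
    rw [SubgroupClass.coe_pow, pow_one, ← huw]
    exact hkill u (Subgroup.lowerCentralSeries_antitone _ (by omega) hu)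
  rw [hpc, mem_bot, pow_one] at hcor
  have hpw : (π a * π c) ^ p = π a ^ p := by
    have h1 := congrArg Subtype.val hcor
    simp only [Subgroup.coe_mul, InvMemClass.coe_inv, SubgroupClass.coe_pow, Subgroup.coe_one,
      hkill c hcL, inv_one, one_mul] at h1
    exact (inv_mul_eq_one.mp h1).symm
  -- conclude
  let H : Subgroup Q := (centralizer ({π g} : Set _)).comap π
  have hH : ∀ y, y ∈ H ↔ π y * π g = π g * π y := fun y => mem_centralizer_singleton_iff
  have h1 : lcs Q (k + 1) ≤ H := fun y hy => by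
    rw [hH, ← commutatorElement_eq_one_iff_mul_comm, ← map_commutatorElement]
    exact (QuotientGroup.eq_one_iff _).mpr (commutator_mem_commutator hy (mem_top g))
  have h2 : a ^ p ∈ H := by
    have hconj : π g * π (a ^ p) * (π g)⁻¹ = π (a ^ p) := by
      rw [map_pow, ← conj_pow,
        show π g * π a * (π g)⁻¹ = π a * π c by
          rw [hc, map_mul, map_mul, map_mul, map_inv, map_inv]; group]
      exact hpw
    rw [hH]
    exact (mul_inv_eq_iff_eq_mul.mp hconj).symm
  refine mem_twoStep.mpr fun y hy => ?_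
  have h3 := (hH y).mp (lcs_le_of_mem hcard (by omega) (by omega) h1 hap hap'' h2 hy)
  rw [← QuotientGroup.eq_one_iff]
  change π (y⁻¹ * g * y * g⁻¹) = 1
  rw [map_mul, map_mul, map_mul, map_inv, map_inv, mul_assoc _ (π g), ← h3]
  group

/-- The top `p - 1` two-step centralisers cover all of them. -/
theorem twoStep_window : ∀ (m : ℕ) {Q : Type*} [Group Q] [Finite Q], IsPGroup p Q → 2 ≤ m →
    Nat.card Q = p ^ (m + 1) → (∀ j, 1 ≤ j → j ≤ m → Nat.card (lcs Q j) = p ^ (m - j)) →
    ∀ i, 1 ≤ i → i + 2 ≤ m → ∃ r, 1 ≤ r ∧ r + 2 ≤ m ∧ m ≤ r + p ∧ twoStep Q i ≤ twoStep Q r := by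
  intro m
  induction m with
  | zero => intros; omega
  | succ m ih =>
    intro Q _ _ hQ hm hord hcard i hi him
    have hp := (Fact.out : p.Prime)
    have hp2 := hp.two_le
    by_cases hnear : m + 1 ≤ i + p
    · exact ⟨i, hi, him, hnear, le_rfl⟩
    -- the quotient by the centre
    haveI : (lcs Q m).Normal := inferInstance
    set π := QuotientGroup.mk' (lcs Q m)
    have hmap : ∀ j, lcs (Q ⧸ lcs Q m) j = (lcs Q j).map π := fun j => by
      show (⊤ : Subgroup (Q ⧸ lcs Q m)).lowerCentralSeries j = _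
      rw [← map_top_of_surjective π (QuotientGroup.mk'_surjective _), ← map_lowerCentralSeries]
    have hmc : Nat.card (lcs Q m) = p := by
      rw [hcard m (by omega) (by omega), show m + 1 - m = 1 by omega, pow_one]
    have hord' : Nat.card (Q ⧸ lcs Q m) = p ^ (m + 1) := by
      have h := card_eq_card_quotient_mul_card_subgroup (lcs Q m)
      rw [hord, hmc, pow_succ p (m + 1)] at h
      exact (Nat.eq_of_mul_eq_mul_right hp.pos h).symm
    have hcard' : ∀ j, 1 ≤ j → j ≤ m → Nat.card (lcs (Q ⧸ lcs Q m) j) = p ^ (m - j) := by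
      intro j hj hjm
      rw [hmap, PSolv.card_map_mk_eq_relIndex]
      have h := relIndex_mul_relIndex ⊥ (lcs Q m) (lcs Q j) bot_le
        (Subgroup.lowerCentralSeries_antitone _ hjm)
      rw [relIndex_bot_left, relIndex_bot_left, hmc, hcard j hj (by omega),
        show m + 1 - j = m - j + 1 by omega, pow_succ'] at h
      exact Nat.eq_of_mul_eq_mul_left hp.pos h
    have hback : ∀ j, j + 2 ≤ m → ∀ g : Q, π g ∈ twoStep (Q ⧸ lcs Q m) j ↔ g ∈ twoStep Q j := by
      intro j hj g
      have hle : lcs Q m ≤ lcs Q (j + 2) := Subgroup.lowerCentralSeries_antitone _ hj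
      have hiff : ∀ v : Q, π v ∈ lcs (Q ⧸ lcs Q m) (j + 2) ↔ v ∈ lcs Q (j + 2) := fun v => by
        rw [hmap]
        exact ⟨fun hv => by
          have : v ∈ ((lcs Q (j + 2)).map π).comap π := hv
          rwa [comap_map_eq_self (by rwa [QuotientGroup.ker_mk'])] at this, mem_map_of_mem π⟩
      rw [mem_twoStep, mem_twoStep]
      constructor
      · intro h y hy
        rw [← hiff]
        simpa using h (π y) (hmap j ▸ mem_map_of_mem π hy)
      · intro h y hy
        rw [hmap] at hy
        obtain ⟨y, hy, rfl⟩ := hy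
        simpa using (hiff _).2 (h y hy)
    -- an element outside all two-step centralisers
    obtain ⟨x, hx⟩ := exists_notMem hQ (Finset.Icc (max 1 (m - p)) (m - 1)) (twoStep Q)
      (fun r hr => twoStep_ne_top hcard (by have := Finset.mem_Icc.mp hr; omega))
      (by rw [Nat.card_Icc]; omega)
    have hxall : ∀ r, 1 ≤ r → r + 2 ≤ m + 1 → x ∉ twoStep Q r := by
      intro r hr hrm hxr
      by_cases hlast : m - p ≤ r
      · exact hx r (Finset.mem_Icc.2 ⟨by omega, by omega⟩) hxr
      obtain ⟨r', hr', hr'm, hr'p, hle⟩ :=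
        ih (hQ.to_quotient _) (by omega) hord' hcard' r hr (by omega)
      exact hx r' (Finset.mem_Icc.2 ⟨by omega, by omega⟩)
        ((hback r' hr'm x).1 (hle ((hback r (by omega) x).2 hxr)))
    have hsmall := small_of_notMem hQ hm hord hcard (by omega) hxall
    -- climb
    suffices ∀ d i, m + 1 ≤ i + p + d → 1 ≤ i → i + 2 ≤ m + 1 →
        ∃ r, 1 ≤ r ∧ r + 2 ≤ m + 1 ∧ m + 1 ≤ r + p ∧ twoStep Q i ≤ twoStep Q r from
      this (m + 1) i (by omega) hi him
    intro d
    induction d with
    | zero => exact fun i hd hi him => ⟨i, hi, him, hd, le_rfl⟩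
    | succ d ihd =>
      intro i hd hi him
      by_cases hnear : m + 1 ≤ i + p
      · exact ⟨i, hi, him, hnear, le_rfl⟩
      obtain ⟨r, h1, h2, h3, h4⟩ := ihd (i + (p - 1)) (by omega) (by omega) (by omega)
      exact ⟨r, h1, h2, h3, (twoStep_le_add hsmall hcard hi (by omega)).trans h4⟩

/-- Outside any proper subgroup of a group of maximal class there is an element with centraliser
of order `p ^ 2` which moves the second centre and lies outside every two-step centraliser. -/
theorem exists_gamma {n : ℕ} (hn : 4 ≤ n) (hcard : Nat.card Q = p ^ n)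
    (hmax : Group.nilpotencyClass Q = n - 1) {H : Subgroup Q} (hH : H ≠ ⊤) :
    ∃ x : Q, x ∉ H ∧ Nat.card (centralizer ({x} : Set Q)) = p ^ 2 ∧
      ∀ i, 1 ≤ i → i + 2 ≤ n - 1 → x ∉ twoStep Q i := by
  classical
  have hp := (Fact.out : p.Prime)
  have hQ : IsPGroup p Q := IsPGroup.of_card hcard
  obtain ⟨m, rfl⟩ : ∃ m, n = m + 1 := ⟨n - 1, by omega⟩
  rw [Nat.add_sub_cancel] at hmax ⊢
  have hc : ∀ j, 1 ≤ j → j ≤ m → Nat.card (lcs Q j) = p ^ (m - j) := by
    have := card_lcs (Q := Q) (by omega) hcard (by rw [Nat.add_sub_cancel]; exact hmax)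
    simpa using this
  obtain ⟨x, hx⟩ := exists_notMem hQ (insert 0 (Finset.Icc (max 1 (m - p)) (m - 2)))
    (fun r => if r = 0 then H else twoStep Q r) (by
      intro r hr
      rcases Finset.mem_insert.1 hr with rfl | hr
      · simpa using hH
      · have := Finset.mem_Icc.mp hr
        rw [if_neg (by omega)]
        exact twoStep_ne_top hc (by omega))
    ((Finset.card_insert_le _ _).trans (by
      rw [Nat.card_Icc]; have := hp.two_le; omega))
  have hxall : ∀ i, 1 ≤ i → i + 2 ≤ m → x ∉ twoStep Q i := by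
    intro i hi him hxi
    obtain ⟨r, h1, h2, h3, h4⟩ := twoStep_window m hQ (by omega) hcard hc i hi him
    have := hx r (Finset.mem_insert_of_mem (Finset.mem_Icc.2 ⟨by omega, by omega⟩))
    rw [if_neg (by omega)] at this
    exact this (h4 hxi)
  refine ⟨x, by simpa using hx 0 (Finset.mem_insert_self _ _), le_antisymm
    (small_of_notMem hQ (by omega) hcard hc (by omega) hxall).hC ?_, hxall⟩
  -- the centraliser contains `x` and the centre
  haveI : Nontrivial Q := Finite.one_lt_card_iff_nontrivial.1 (hcard ▸ Nat.one_lt_pow (by omega) hp.one_lt)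
  haveI := hQ.center_nontrivial
  obtain ⟨a, ha⟩ := IsPGroup.iff_card.1 (hQ.to_subgroup (center Q))
  obtain ⟨b, hb⟩ := IsPGroup.iff_card.1 (hQ.to_subgroup (centralizer ({x} : Set Q)))
  have hlt : center Q < centralizer ({x} : Set Q) := lt_of_le_of_ne (center_le_centralizer _) fun e => by
    have hxc : x ∈ center Q := e ▸ mem_centralizer_singleton_iff.2 rfl
    refine hxall 1 le_rfl (by omega) (mem_twoStep.2 fun y _ => ?_)
    rw [mul_assoc (y⁻¹) x y, ← mem_center_iff.1 hxc y, inv_mul_cancel_left, mul_inv_cancel]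
    exact one_mem _
  have h1 := Finite.one_lt_card (α := center Q)
  have h2 : Nat.card (center Q) < Nat.card (centralizer ({x} : Set Q)) :=
    Set.ncard_lt_ncard (SetLike.coe_ssubset_coe.mpr hlt) (Set.toFinite _)
  rw [ha] at h1 h2
  rw [hb, Nat.pow_lt_pow_iff_right hp.one_lt] at h2
  rw [hb]
  refine Nat.pow_le_pow_right hp.pos ?_
  rcases Nat.eq_zero_or_pos a with rfl | h
  · simp at h1
  · omega

end Cfsg.Agent.MaxClassP
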